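import Groth.Agent.Sga1.StrictSection
import Groth.Agent.Hensel.FiniteEtaleLift
import Groth.Agent.Ega43.DvrDomination
import Groth.Prelude.Def_FEt
import Groth.Prelude.Def_EtBase
import Mathlib.AlgebraicGeometry.Morphisms.Finite
import Mathlib.AlgebraicGeometry.Morphisms.Etale
import Mathlib.AlgebraicGeometry.Morphisms.FlatRank
import Mathlib.AlgebraicGeometry.Morphisms.UniversallyOpen
import Mathlib.RingTheory.Spectrum.Prime.Topology
import Mathlib.RingTheory.KrullDimension.Basic
import Mathlib.RingTheory.Spectrum.Prime.Noetherian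
import Mathlib.Topology.Separation.Connected
import Mathlib.Order.KrullDimension

/-!
# Punctured spectra of strictly henselian Noetherian local rings with only trivial covers

If `A` is a strictly henselian Noetherian local ring such that restriction of finite étale covers
to the punctured spectrum is an equivalence, then the punctured spectrum is connected (in
particular nonempty) and `dim A ≥ 2`.
-/

set_option autoImplicit false

universe u

open CategoryTheory CategoryTheory.Limits AlgebraicGeometry IsLocalRing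

namespace Groth.Agent.Sga2lef.H364.StrictDim

instance isFinite_hom {X : Scheme.{u}} (Y : FEt.Cat X) : IsFinite Y.hom := Y.prop.1

instance etale_hom {X : Scheme.{u}} (Y : FEt.Cat X) : Etale Y.hom := Y.prop.2

theorem connectedSpace_spec (A : Type u) [CommRing A] [IsLocalRing A] :
    ConnectedSpace (Spec (CommRingCat.of A)) := by
  have h1 : PreconnectedSpace (PrimeSpectrum A) := by
    rw [preconnectedSpace_iff_clopen]
    intro U hU
    by_cases hc : closedPoint A ∈ U
    · right
      have := (IsLocalRing.closedPoint_mem_iff (⟨U, hU.isOpen⟩ : TopologicalSpace.Opens (PrimeSpectrum A))).1 hc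
      exact congrArg (fun W : TopologicalSpace.Opens (PrimeSpectrum A) => (W : Set (PrimeSpectrum A))) this
    · left
      have := (IsLocalRing.closedPoint_mem_iff (⟨Uᶜ, hU.compl.isOpen⟩ : TopologicalSpace.Opens (PrimeSpectrum A))).1 hc
      have h2 : Uᶜ = Set.univ :=
        congrArg (fun W : TopologicalSpace.Opens (PrimeSpectrum A) => (W : Set (PrimeSpectrum A))) this
      exact Set.compl_univ_iff.1 h2
  have h2 : Nonempty (PrimeSpectrum A) := inferInstance
  exact ({ toPreconnectedSpace := h1, toNonempty := h2 } : ConnectedSpace (PrimeSpectrum A))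

/-- A nonempty finite étale scheme over a connected scheme is surjective over it. -/
theorem surjective_of_nonempty {S Y : Scheme.{u}} (f : Y ⟶ S) [IsFinite f] [Etale f]
    [ConnectedSpace S] (h : Nonempty Y) : Function.Surjective f := by
  have hc : IsClopen (Set.range f) :=
    ⟨f.isClosedMap.isClosed_range, f.isOpenMap.isOpen_range⟩
  rcases isClopen_iff.1 hc with h0 | h1
  · exact absurd h0 (Set.range_nonempty f).ne_empty
  · exact Set.range_eq_univ.1 h1

/-- The inclusion of a closed open subscheme is finite étale. -/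
theorem prop_ι {S : Scheme.{u}} (U : S.Opens) (hU : IsClosed (U : Set S)) : FEt.prop U.ι := by
  have : IsClosedImmersion U.ι := by
    have h1 : IsPreimmersion U.ι := inferInstance
    exact IsClosedImmersion.of_isPreimmersion U.ι (by simpa using hU)
  exact ⟨inferInstance, inferInstance⟩

/-- The cover given by a closed open subscheme. -/
noncomputable def ofClopen {S : Scheme.{u}} (U : S.Opens) (hU : IsClosed (U : Set S)) : FEt.Cat S :=
  MorphismProperty.Over.mk ⊤ U.ι (prop_ι U hU)

theorem nonempty_of_full {S : Scheme.{u}} [Nonempty S] (V : S.Opens)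
    (h : (FEt.restrict V.ι).Full) : Nonempty V := by
  by_contra hV
  have hVe : IsEmpty V.toScheme := not_nonempty_iff.1 hV
  let T : FEt.Cat S := ofClopen ⊤ isClosed_univ
  let E : FEt.Cat S := ofClopen ⊥ isClosed_empty
  have hT : IsEmpty ((FEt.restrict V.ι).obj T).left :=
    ⟨fun x => hVe.false (pullback.snd T.hom V.ι x)⟩
  let φ : (FEt.restrict V.ι).obj T ⟶ (FEt.restrict V.ι).obj E :=
    MorphismProperty.Over.homMk ((isInitialOfIsEmpty).to _) ((isInitialOfIsEmpty).hom_ext _ _)
  obtain ⟨ψ, -⟩ := (FEt.restrict V.ι).map_surjective φ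
  obtain ⟨s⟩ := ‹Nonempty S›
  have : (⊥ : S.Opens).toScheme := ψ.left ⟨s, trivial⟩
  exact this.2

theorem preconnected_of_essSurj {S : Scheme.{u}} [ConnectedSpace S] (V : S.Opens)
    (h : (FEt.restrict V.ι).EssSurj) : PreconnectedSpace V := by
  rw [preconnectedSpace_iff_clopen]
  intro U hU
  let UO : V.toScheme.Opens := ⟨U, hU.isOpen⟩
  let e := (FEt.restrict V.ι).objObjPreimageIso (ofClopen UO hU.isClosed)
  set Y := (FEt.restrict V.ι).objPreimage (ofClopen UO hU.isClosed) with hY
  by_cases hne : Nonempty Y.left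
  · right
    have h1 : Function.Surjective Y.hom := surjective_of_nonempty (S := S) Y.hom hne
    have h2 : Surjective (pullback.snd Y.hom V.ι) := by
      have : Surjective Y.hom := ⟨h1⟩
      infer_instance
    rw [Set.eq_univ_iff_forall]
    intro v
    obtain ⟨w, hw⟩ := h2.surj v
    have h3 : e.hom.left ≫ UO.ι = pullback.snd Y.hom V.ι := Over.w e.hom.hom
    have h4 : UO.ι (e.hom.left w) = v := by
      rw [← hw, ← h3]; rfl
    rw [← h4]
    exact (e.hom.left w).2
  · left
    rw [Set.eq_empty_iff_forall_notMem]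
    intro v hv
    exact hne ⟨pullback.fst Y.hom V.ι (e.inv.left (⟨v, hv⟩ : UO))⟩

theorem connected (A : Type u) [CommRing A] [IsLocalRing A]
    (h : (FEt.restrict (FEt.puncturedSpec A).ι).IsEquivalence) :
    ConnectedSpace (FEt.puncturedSpec A) := by
  have := connectedSpace_spec A
  have h1 : Nonempty (FEt.puncturedSpec A) := nonempty_of_full _ h.full
  have h2 : PreconnectedSpace (FEt.puncturedSpec A) := preconnected_of_essSurj _ h.essSurj
  exact { toNonempty := h1 }

/-- Finite étale covers of the punctured spectrum have sections. -/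
theorem exists_section (A : Type u) [CommRing A] [HenselianLocalRing A]
    [IsSepClosed (ResidueField A)] (V : (Spec (CommRingCat.of A)).Opens)
    (h : (FEt.restrict V.ι).EssSurj)
    {W : Scheme.{u}} (g : W ⟶ V.toScheme) [IsFinite g] [Etale g]
    (hne : Nonempty W) : ∃ s, s ≫ g = 𝟙 V.toScheme := by
  have := connectedSpace_spec A
  let WO : FEt.Cat V.toScheme := MorphismProperty.Over.mk ⊤ g ⟨‹_›, ‹_›⟩
  let e := (FEt.restrict V.ι).objObjPreimageIso WO
  set Y := (FEt.restrict V.ι).objPreimage WO with hY
  obtain ⟨w⟩ := hne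
  have hYne : Nonempty Y.left := ⟨pullback.fst Y.hom V.ι (e.inv.left w)⟩
  obtain ⟨y, hy⟩ := surjective_of_nonempty (S := Spec (CommRingCat.of A)) Y.hom hYne (closedPoint A)
  obtain ⟨t, ht⟩ := Groth.Agent.Sga1.StrictSection.exists_section_of_strictlyHenselian Y.hom y hy
  let e1 : pullback Y.hom V.ι ⟶ W := e.hom.left
  have h3 : e1 ≫ g = pullback.snd Y.hom V.ι := Over.w e.hom.hom
  refine ⟨pullback.lift (V.ι ≫ t) (𝟙 _) (by
    rw [Category.assoc, ht, Category.comp_id, Category.id_comp]) ≫ e1, ?_⟩
  rw [Category.assoc, h3, pullback.lift_snd]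

/-- Units of `B` have `n`-th roots if `Spec B` is the punctured spectrum and `n` is invertible. -/
theorem exists_root (A : Type u) [CommRing A] [HenselianLocalRing A]
    [IsSepClosed (ResidueField A)] (V : (Spec (CommRingCat.of A)).Opens)
    (h : (FEt.restrict V.ι).EssSurj) (B : Type u) [CommRing B] [Nontrivial B]
    (e : Spec (CommRingCat.of B) ≅ V.toScheme) (n : ℕ) (hn0 : n ≠ 0) (hn : IsUnit (n : B))
    (u : B) (hu : IsUnit u) : ∃ x : B, x ^ n = u := by
  let f : Polynomial B := Polynomial.X ^ n - Polynomial.C u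
  have hf : f.Monic := Polynomial.monic_X_pow_sub_C u hn0
  have hs : f.Separable := Polynomial.separable_X_pow_sub_C_unit hu.unit hn
  have hE : Algebra.Etale B (AdjoinRoot f) :=
    Groth.Agent.Hensel.FiniteEtaleLift.etale_adjoinRoot f hf hs
  have hF : Module.Finite B (AdjoinRoot f) := hf.finite_adjoinRoot
  let q : Spec (CommRingCat.of (AdjoinRoot f)) ⟶ Spec (CommRingCat.of B) :=
    Spec.map (CommRingCat.ofHom (algebraMap B (AdjoinRoot f)))
  have hqE : Etale q := by
    rw [HasRingHomProperty.Spec_iff (P := @AlgebraicGeometry.Etale)]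
    exact RingHom.etale_algebraMap.2 hE
  have hqF : IsFinite q := by
    rw [IsFinite.SpecMap_iff]
    exact RingHom.finite_algebraMap.2 hF
  have hdeg : f.natDegree = n := Polynomial.natDegree_X_pow_sub_C
  have hnt : Nontrivial (AdjoinRoot f) := by
    refine nontrivial_of_ne (AdjoinRoot.mk f 1) 0 fun h0 => ?_
    rw [AdjoinRoot.mk_eq_zero] at h0
    have h1 : f = 1 := hf.eq_one_of_isUnit (isUnit_of_dvd_one h0)
    rw [h1, Polynomial.natDegree_one] at hdeg
    exact hn0 hdeg.symm
  have hne : Nonempty (Spec (CommRingCat.of (AdjoinRoot f))) := by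
    have : Nonempty (PrimeSpectrum (AdjoinRoot f)) := inferInstance
    exact this
  obtain ⟨s, hs⟩ := exists_section A V h (q ≫ e.hom) hne
  have h1 : (e.hom ≫ s) ≫ q = 𝟙 _ := by
    rw [← cancel_mono e.hom, Category.assoc, Category.assoc, hs, Category.comp_id,
      Category.id_comp]
  obtain ⟨φ, hφ⟩ := Spec.map_surjective (e.hom ≫ s)
  rw [← hφ, ← Spec.map_comp, ← Spec.map_id] at h1
  have h2 := Spec.map_injective h1
  have h3 : ∀ b : B, φ.hom (algebraMap B (AdjoinRoot f) b) = b := fun b =>
    congrArg (fun ψ : CommRingCat.of B ⟶ CommRingCat.of B => ψ.hom b) h2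
  refine ⟨φ.hom (AdjoinRoot.root f), ?_⟩
  have h4 : AdjoinRoot.root f ^ n = algebraMap B (AdjoinRoot f) u := by
    have := AdjoinRoot.eval₂_root f
    simp only [f, Polynomial.eval₂_sub, Polynomial.eval₂_X_pow, Polynomial.eval₂_C] at this
    exact sub_eq_zero.1 this
  rw [← map_pow, h4, h3]

/-- A field generated (as an essentially finite type algebra) by a Noetherian local ring whose
maximal ideal does not vanish in it has an element without `n`-th root, for every `n ≥ 2`. -/
theorem exists_no_root (A : Type u) [CommRing A] [IsLocalRing A] [IsNoetherianRing A]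
    (K : Type u) [Field K] [Algebra A K] [Algebra.EssFiniteType A K]
    (b : A) (hb : b ∈ maximalIdeal A) (hbK : algebraMap A K b ≠ 0) :
    ∃ v : K, v ≠ 0 ∧ ∀ n : ℕ, 2 ≤ n → ∀ y : K, y ^ n ≠ v := by
  let p : Ideal A := RingHom.ker (algebraMap A K)
  have hp : p.IsPrime := RingHom.ker_isPrime _
  have hpt : p ≤ maximalIdeal A := le_maximalIdeal hp.ne_top
  have : Nontrivial (A ⧸ p) := Ideal.Quotient.nontrivial_iff.2 hp.ne_top
  have : IsLocalRing (A ⧸ p) := .of_surjective' (Ideal.Quotient.mk p) Ideal.Quotient.mk_surjective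
  have hdom : IsDomain (A ⧸ p) := Ideal.Quotient.isDomain p
  let _ : Algebra (A ⧸ p) K := (Ideal.Quotient.lift p (algebraMap A K) fun a ha => ha).toAlgebra
  have hst : IsScalarTower A (A ⧸ p) K := .of_algebraMap_eq fun a => rfl
  have hinj : Function.Injective (algebraMap (A ⧸ p) K) := by
    rw [injective_iff_map_eq_zero]
    intro a ha
    obtain ⟨a, rfl⟩ := Ideal.Quotient.mk_surjective a
    exact Ideal.Quotient.eq_zero_iff_mem.2 ha
  have hess : Algebra.EssFiniteType (A ⧸ p) K := Algebra.EssFiniteType.of_comp A (A ⧸ p) K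
  have hbm : Ideal.Quotient.mk p b ∈ maximalIdeal (A ⧸ p) := by
    rw [mem_maximalIdeal]
    intro hu
    obtain ⟨c, hc⟩ := hu.exists_right_inv
    obtain ⟨c, rfl⟩ := Ideal.Quotient.mk_surjective c
    rw [← map_mul, ← map_one (Ideal.Quotient.mk p), Ideal.Quotient.eq] at hc
    have h1 : b * c - 1 ∈ maximalIdeal A := hpt hc
    have h2 : b * c ∈ maximalIdeal A := Ideal.mul_mem_right _ _ hb
    have h3 : (1 : A) ∈ maximalIdeal A := by
      have := Ideal.sub_mem _ h2 h1
      rwa [sub_sub_cancel] at this
    exact (Ideal.ne_top_iff_one _).1 (maximalIdeal.isMaximal A).ne_top h3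
  have hb0 : Ideal.Quotient.mk p b ≠ 0 := fun h0 => hbK (Ideal.Quotient.eq_zero_iff_mem.1 h0)
  have hfield : ¬ IsField (A ⧸ p) := fun hf => by
    rw [IsLocalRing.isField_iff_maximalIdeal_eq.1 hf] at hbm
    exact hb0 hbm
  obtain ⟨W, hW, -, -⟩ := Groth.Agent.Ega43.DvrDomination.exists_dvr_dominating (A ⧸ p) hfield K hinj
  obtain ⟨ϖ, hϖ⟩ := IsDiscreteValuationRing.exists_irreducible W
  refine ⟨ϖ, fun h0 => hϖ.ne_zero (Subtype.ext h0), fun n hn y hy => ?_⟩
  have hyW : y ∈ W := by
    rcases W.mem_or_inv_mem y with h1 | h1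
    · exact h1
    · exfalso
      have hy0 : y ≠ 0 := by
        rintro rfl
        rw [zero_pow (by omega)] at hy
        exact hϖ.ne_zero (Subtype.ext hy.symm)
      have h2 : ϖ * (⟨y⁻¹, h1⟩ : W) ^ n = 1 := by
        apply Subtype.ext
        change (ϖ : K) * (y⁻¹) ^ n = 1
        rw [← hy, ← mul_pow, mul_inv_cancel₀ hy0, one_pow]
      exact hϖ.not_isUnit (IsUnit.of_mul_eq_one _ h2)
  have h3 : (⟨y, hyW⟩ : W) ^ n = ϖ := Subtype.ext hy
  rw [← h3] at hϖ
  exact not_irreducible_pow (by omega) hϖ

/-- If `dim A ≤ 1` and the punctured spectrum is connected, it has at most one point. -/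
theorem subsingleton_of_dim (A : Type u) [CommRing A] [IsLocalRing A] [IsNoetherianRing A]
    (hconn : PreconnectedSpace (FEt.puncturedSpec A)) (hdim : ¬ (2 : WithBot ℕ∞) ≤ ringKrullDim A) :
    Subsingleton (FEt.puncturedSpec A) := by
  have h1 : Ring.KrullDimLE 1 A := by
    rw [Ring.krullDimLE_iff]
    rw [not_le] at hdim
    have h2 : (2 : WithBot ℕ∞) = ((1 : ℕ) : WithBot ℕ∞) + 1 := by norm_num
    rw [h2] at hdim
    exact ENat.WithBot.lt_add_one_iff.1 hdim
  rw [Ring.krullDimLE_one_iff] at h1
  have hmin : ∀ v : FEt.puncturedSpec A, (show PrimeSpectrum A from v.1).asIdeal ∈ minimalPrimes A := by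
    intro v
    rcases h1 (show PrimeSpectrum A from v.1).asIdeal (show PrimeSpectrum A from v.1).isPrime with h2 | h2
    · exact h2
    · exfalso
      exact v.2 (PrimeSpectrum.ext (IsLocalRing.eq_maximalIdeal h2))
  have hfin : Finite (FEt.puncturedSpec A) := by
    have hf : (minimalPrimes A).Finite := minimalPrimes.finite_of_isNoetherianRing A
    have : Finite (minimalPrimes A) := hf
    refine Finite.of_injective (β := minimalPrimes A)
      (fun v => ⟨(show PrimeSpectrum A from v.1).asIdeal, hmin v⟩) ?_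
    intro v w hvw
    exact Subtype.ext (PrimeSpectrum.ext (congrArg Subtype.val hvw))
  have hT1 : T1Space (FEt.puncturedSpec A) := by
    refine ⟨fun v => ?_⟩
    have h3 : ({v} : Set (FEt.puncturedSpec A)) = Subtype.val ⁻¹'
        (PrimeSpectrum.zeroLocus (((show PrimeSpectrum A from v.1).asIdeal : Ideal A) : Set A)) := by
      ext w
      constructor
      · rintro rfl
        exact le_refl (show PrimeSpectrum A from w.1).asIdeal
      · intro hw
        have h4 : (show PrimeSpectrum A from v.1).asIdeal ≤ (show PrimeSpectrum A from w.1).asIdeal := hw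
        have h5 := (hmin w).2 ⟨(show PrimeSpectrum A from v.1).isPrime, bot_le⟩ h4
        exact Subtype.ext (PrimeSpectrum.ext (le_antisymm h5 h4))
    rw [h3]
    exact (PrimeSpectrum.isClosed_zeroLocus _).preimage continuous_subtype_val
  exact PreconnectedSpace.trivial_of_discrete

theorem two_le_dim (A : Type u) [CommRing A] [HenselianLocalRing A] [IsNoetherianRing A]
    [IsSepClosed (ResidueField A)] (hconn : ConnectedSpace (FEt.puncturedSpec A))
    (h : (FEt.restrict (FEt.puncturedSpec A).ι).EssSurj) : (2 : WithBot ℕ∞) ≤ ringKrullDim A := by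
  by_contra hdim
  have hsub := subsingleton_of_dim A inferInstance hdim
  obtain ⟨p⟩ := hconn.toNonempty
  have hpm : (show PrimeSpectrum A from p.1).asIdeal ≠ maximalIdeal A := fun h0 =>
    p.2 (PrimeSpectrum.ext h0)
  have hlt : ¬ maximalIdeal A ≤ (show PrimeSpectrum A from p.1).asIdeal := fun h0 =>
    hpm (le_antisymm (le_maximalIdeal (show PrimeSpectrum A from p.1).isPrime.ne_top) h0)
  obtain ⟨b, hb, hbp⟩ := SetLike.not_le_iff_exists.1 hlt
  let B := Localization.Away b
  let j : Spec (CommRingCat.of B) ⟶ Spec (CommRingCat.of A) :=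
    Spec.map (CommRingCat.ofHom (algebraMap A B))
  have hjo : IsOpenImmersion j := IsOpenImmersion.of_isLocalization b
  have hjr : Set.range j = Set.range (FEt.puncturedSpec A).ι := by
    have h1 : Set.range j = (PrimeSpectrum.basicOpen b : Set (PrimeSpectrum A)) :=
      PrimeSpectrum.localization_away_comap_range B b
    rw [h1, Scheme.Opens.range_ι]
    ext q
    constructor
    · rintro hq rfl
      exact hq hb
    · intro hq hbq
      have h2 : (⟨q, hq⟩ : FEt.puncturedSpec A) = p := hsub.elim _ _
      have h3 : q = p.1 := congrArg Subtype.val h2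
      rw [h3] at hbq
      exact hbp hbq
  have e : Spec (CommRingCat.of B) ≅ (FEt.puncturedSpec A).toScheme :=
    IsOpenImmersion.isoOfRangeEq j (FEt.puncturedSpec A).ι hjr
  have hsubB : Subsingleton (PrimeSpectrum B) := by
    refine ⟨fun x y => ?_⟩
    have h1 : e.hom x = e.hom y := hsub.elim _ _
    have h2 := congrArg e.inv h1
    have h3 : ∀ z : Spec (CommRingCat.of B), e.inv (e.hom z) = z := fun z => by
      rw [← Scheme.Hom.comp_apply, e.hom_inv_id]; rfl
    exact ((h3 x).symm.trans h2).trans (h3 y)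
  have hneB : Nonempty (PrimeSpectrum B) := ⟨e.inv p⟩
  have hntB : Nontrivial B := PrimeSpectrum.nonempty_iff_nontrivial.1 hneB
  have hlocB : IsLocalRing B := by
    obtain ⟨M, hM⟩ := Ideal.exists_maximal B
    refine IsLocalRing.of_unique_max_ideal ⟨M, hM, fun N hN => ?_⟩
    exact congrArg PrimeSpectrum.asIdeal
      (Subsingleton.elim (⟨N, hN.isPrime⟩ : PrimeSpectrum B) ⟨M, hM.isPrime⟩)
  let K := ResidueField B
  have : Algebra.EssFiniteType A B := .of_isLocalization _ (Submonoid.powers b)
  have : Algebra.EssFiniteType A K := Algebra.EssFiniteType.comp A B K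
  have hbK : algebraMap A K b ≠ 0 := by
    rw [IsScalarTower.algebraMap_apply A B K]
    exact ((IsLocalization.Away.algebraMap_isUnit b).map (algebraMap B K)).ne_zero
  obtain ⟨v, hv0, hv⟩ := exists_no_root A K b hb hbK
  obtain ⟨u, rfl⟩ := residue_surjective v
  have hu : IsUnit u := (residue_ne_zero_iff_isUnit u).1 hv0
  have key : ∀ n : ℕ, 2 ≤ n → ((n : ℕ) : K) = 0 := by
    intro n hn
    by_contra hn0
    have h2 : IsUnit ((n : ℕ) : B) := by
      rw [← residue_ne_zero_iff_isUnit, map_natCast]
      exact hn0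
    obtain ⟨x, hx⟩ := exists_root A _ h B e n (by omega) h2 u hu
    exact hv n hn (residue B x) (by rw [← map_pow, hx])
  have h2 := key 2 le_rfl
  have h3 := key 3 (by norm_num)
  have h4 : (1 : K) = 0 := by
    have : (1 : K) = ((3 : ℕ) : K) - ((2 : ℕ) : K) := by norm_num
    rw [this, h2, h3, sub_zero]
  exact one_ne_zero h4

/-- The result: if `A` is strictly henselian Noetherian and restriction of finite étale covers to
the punctured spectrum is an equivalence, the punctured spectrum is connected and `dim A ≥ 2`. -/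
theorem main (A : Type u) [CommRing A] [HenselianLocalRing A] [IsNoetherianRing A]
    [IsSepClosed (ResidueField A)] (h : (FEt.restrict (FEt.puncturedSpec A).ι).IsEquivalence) :
    ConnectedSpace (FEt.puncturedSpec A) ∧ (2 : WithBot ℕ∞) ≤ ringKrullDim A :=
  ⟨connected A h, two_le_dim A (connected A h) h.essSurj⟩

/-- The same with the predicate `EtCoh.IsStrictlyHenselianLocalRing`. -/
theorem main' (A : Type u) [CommRing A] [IsNoetherianRing A] [IsLocalRing A]
    (hA : EtCoh.IsStrictlyHenselianLocalRing A)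
    (h : (FEt.restrict (FEt.puncturedSpec A).ι).IsEquivalence) :
    ConnectedSpace (FEt.puncturedSpec A) ∧ (2 : WithBot ℕ∞) ≤ ringKrullDim A := by
  obtain ⟨hH, hs⟩ := hA
  exact main A h

end Groth.Agent.Sga2lef.H364.StrictDim
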